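import Groth.Agent.Duality.FundLocal.SmoothImm
import Groth.Agent.KoszulLCI.LocallyRegular
import Groth.Agent.Syntomic.AdaptedChart
import Groth.Agent.KoszulCone.Polynomial

/-!
# A smooth closed subscheme of a smooth scheme is regularly immersed, over any base
-/

set_option autoImplicit false
set_option linter.style.haveILetI false

universe u

open CategoryTheory CategoryTheory.Limits AlgebraicGeometry RingTheory.Sequence

noncomputable section

namespace Groth.RegImmSmooth

/-- Coordinates pulled back along an etale algebra form a weakly regular sequence. -/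
theorem isWeaklyRegular_of_etale {A T : Type u} [CommRing A] [CommRing T] [Algebra A T] {m n : ℕ}
    (w : Fin m ⊕ Fin n → T) (h : (MvPolynomial.aeval (R := A) w).toRingHom.Etale) :
    IsWeaklyRegular T (List.ofFn fun i => w (Sum.inr i)) := by
  let R := MvPolynomial (Fin m) A
  let e : MvPolynomial (Fin n) R ≃ₐ[A] MvPolynomial (Fin m ⊕ Fin n) A :=
    (MvPolynomial.sumAlgEquiv A (Fin n) (Fin m)).symm.trans
      (MvPolynomial.renameEquiv A (Equiv.sumComm _ _))
  let Φ : MvPolynomial (Fin n) R →+* T := ((MvPolynomial.aeval w).comp e.toAlgHom).toRingHom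
  have hΦ : Φ.Etale := RingHom.Etale.respectsIso.2 _ e.toRingEquiv h
  letI := Φ.toAlgebra
  haveI : Algebra.Etale (MvPolynomial (Fin n) R) T := hΦ
  have hr := (Groth.KoszulCone.isWeaklyRegular_varList_pow (A := R) n 1).of_flat (S := T)
  simp only [pow_one, List.map_id'] at hr
  have e' : List.map (algebraMap (MvPolynomial (Fin n) R) T) (Groth.KoszulCone.varList (A := R) n) =
      List.ofFn fun i => w (Sum.inr i) := by
    rw [List.map_ofFn]
    refine congrArg List.ofFn (funext fun i => ?_)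
    show MvPolynomial.aeval w (e (MvPolynomial.X i)) = _
    rw [show e (MvPolynomial.X i) = MvPolynomial.X (Sum.inr i) from ?_, MvPolynomial.aeval_X]
    show MvPolynomial.renameEquiv A (Equiv.sumComm _ _) ((MvPolynomial.sumAlgEquiv A (Fin n) (Fin m)).symm (MvPolynomial.X i)) = _
    erw [MvPolynomial.sumAlgEquiv_symm_X]
    simp
  rwa [e'] at hr

variable {S P X : Scheme.{u}} (g : P ⟶ S) (f : X ⟶ S) (ι : X ⟶ P) [IsClosedImmersion ι]
  [Smooth g] [Smooth f]

include g f in
/-- A smooth closed subscheme of a smooth scheme is regularly immersed. -/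
theorem isRegularImmersionAt (hι : ι ≫ g = f) (z : X) :
    RegImm.IsRegularImmersionAt .regular ι z := by
  obtain ⟨W, hW, hzW, -⟩ := exists_isAffineOpen_mem_and_subset (show g (ι z) ∈ (⊤ : S.Opens) from trivial)
  obtain ⟨U, hU, hzU, hUW⟩ := exists_isAffineOpen_mem_and_subset (show ι z ∈ g ⁻¹ᵁ W from hzW)
  have e : U ≤ g ⁻¹ᵁ W := hUW
  refine Groth.KoszulLCI.isRegularImmersionAt_regular_of_lRegAt ι z ⟨U, hU⟩ hzU inferInstance ?_
  have hA := Groth.KoszulReg.isAffineOpen_preimage ι U hU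
  have e₂ : ι ⁻¹ᵁ U ≤ f ⁻¹ᵁ W := fun x hx => by
    show f x ∈ W
    rw [← hι, Scheme.Hom.comp_apply]
    exact e hx
  let A := Γ(S, W)
  let B := Γ(P, U)
  let _ : Algebra A B := (g.appLE W U e).hom.toAlgebra
  have : Algebra.Smooth A B := HasRingHomProperty.appLE (P := @Smooth) g ‹_› ⟨W, hW⟩ ⟨U, hU⟩ e
  let _ : Algebra A Γ(X, ι ⁻¹ᵁ U) := (f.appLE W (ι ⁻¹ᵁ U) e₂).hom.toAlgebra
  have : Algebra.Smooth A Γ(X, ι ⁻¹ᵁ U) :=
    HasRingHomProperty.appLE (P := @Smooth) f ‹_› ⟨W, hW⟩ ⟨ι ⁻¹ᵁ U, hA⟩ e₂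
  let π : B →ₐ[A] Γ(X, ι ⁻¹ᵁ U) :=
    { (ι.app U).hom with
      commutes' := fun a => by
        show (ι.app U).hom ((g.appLE W U e).hom a) = (f.appLE W (ι ⁻¹ᵁ U) e₂).hom a
        subst hι
        rw [Scheme.Hom.app_eq_appLE, ← CommRingCat.comp_apply, Scheme.Hom.appLE_comp_appLE] }
  have hπ : Function.Surjective π := Groth.KoszulReg.surjective_app ι U hU
  let J : Ideal B := RingHom.ker π.toRingHom
  have hJ : J.FG := Algebra.FinitePresentation.ker_fG_of_surjective π hπ
  have : Algebra.Smooth A (B ⧸ J) :=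
    Algebra.Smooth.of_equiv (R := A) (A := Γ(X, ι ⁻¹ᵁ U)) (B := B ⧸ J)
      (Ideal.quotientKerAlgEquivOfSurjective (f := π) hπ).symm
  let q := (hU.primeIdealOf ⟨ι z, hzU⟩).asIdeal
  have hJq : J ≤ q := Groth.KoszulLCI.ker_app_le_primeIdealOf ι hU z hzU
  obtain ⟨t, ht, m, n, hw⟩ := Groth.Syntomic.exists_adapted_away (A := A) J hJ q hJq
  obtain ⟨w, het, hJw⟩ := hw (Localization.Away t)
  have hreg := isWeaklyRegular_of_etale w het
  choose a ha using fun x : Localization.Away t => IsLocalization.surj (Submonoid.powers t) x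
  have hass : List.Forall₂ Associated (List.ofFn fun i => w (Sum.inr i))
      (((List.ofFn fun i => w (Sum.inr i)).map fun x => (a x).1).map (algebraMap B (Localization.Away t))) := by
    rw [List.map_map]
    refine List.forall₂_map_right_iff.mpr (List.forall₂_same.mpr fun x _ => ?_)
    refine ⟨(IsLocalization.map_units (Localization.Away t) (a x).2).unit, ?_⟩
    rw [IsUnit.unit_spec, ha]
    rfl
  refine ⟨t, ht, (List.ofFn fun i => w (Sum.inr i)).map fun x => (a x).1,
    Groth.FrobLCI.RegularSpread.isWeaklyRegular_of_forall₂ hass hreg, ?_⟩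
  rw [← Groth.FrobLCI.RegularSpread.ofList_eq_of_forall₂ hass]
  refine Eq.trans ?_ hJw.symm
  rw [Ideal.ofList]
  congr 1
  ext x
  simp [List.mem_ofFn]

include g f in
/-- A smooth closed subscheme of a smooth scheme is regularly immersed. -/
theorem isRegularImmersion (hι : ι ≫ g = f) : RegImm.IsRegularImmersion .regular ι :=
  ⟨inferInstance, isRegularImmersionAt g f ι hι⟩

variable [QuasiSeparated g] [QuasiSeparated f] (n r : ℕ)

include g f in
/-- Its conormal sheaf has rank `n - r`. -/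
theorem isFinLocFreeOfRank_conormal (hg : FlatMod.IsFinLocFreeOfRank n (Omega.sheaf g))
    (hf : FlatMod.IsFinLocFreeOfRank r (Omega.sheaf f)) (hι : ι ≫ g = f) :
    FlatMod.IsFinLocFreeOfRank (n - r) (Omega.conormal ι) ∧ ∀ _ : X, r ≤ n := by
  obtain ⟨φ, c, w, hS⟩ := Groth.Duality.FundLocal.exists_conormal_ses g f ι hι
  have h2 : FlatMod.IsFinLocFreeOfRank n ((Scheme.Modules.pullback ι).obj (Omega.sheaf g)) :=
    LocFree.isFinLocFreeOfRank_pullback ι hg
  have hC : FlatMod.IsFinLocFree (Omega.conormal ι) :=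
    KoszulLCI.isFinLocFree_conormal ι fun z =>
      (KoszulLCI.isRegularImmersion_of_isRegularImmersion_regular .h1 ι (isRegularImmersion g f ι hι)).2 z
  have key : ∀ x : X, n = Module.finrank (X.presheaf.stalk x) ((Omega.conormal ι).presheaf.stalk x) + r := by
    intro x
    have := LocFree.finrank_stalk_add hS hC (LocFree.isFinLocFree_of_rank hf) x
    rwa [LocFree.finrank_stalk h2 x, LocFree.finrank_stalk hf x] at this
  refine ⟨LocFree.isFinLocFreeOfRank_iff_finrank.2 ⟨hC, fun x => ?_⟩, fun x => ?_⟩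
  · have := key x; omega
  · have := key x; omega

include g f in
/-- It is regularly immersed in codimension `n - r`. -/
theorem isRegularImmersionOfCodim (hg : FlatMod.IsFinLocFreeOfRank n (Omega.sheaf g))
    (hf : FlatMod.IsFinLocFreeOfRank r (Omega.sheaf f)) (hι : ι ≫ g = f) :
    RegImm.IsRegularImmersionOfCodim .regular (n - r) ι := by
  obtain ⟨hrk, -⟩ := isFinLocFreeOfRank_conormal g f ι n r hg hf hι
  refine ⟨inferInstance, fun z => ?_⟩
  obtain ⟨U, hz, hci, rs, hseq, hker⟩ := (isRegularImmersion g f ι hι).2 z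
  refine ⟨U, hz, hci, rs, ?_, hseq, hker⟩
  have hW := Groth.Duality.FundLocal.isConormalChart ι (U := U.1) U.2
  obtain ⟨b⟩ := KoszulLCI.nonempty_basis_conormal ι hW rs.get
    (KoszulLCI.seq_h1_of_koszul (KoszulLCI.seq_koszul_of_regular hseq)) (by rw [hker, Set.range_list_get])
  have hb : PicAux.Basis' (Omega.conormal ι) (ι ⁻¹ᵁ U.1) b := by
    refine KTheory.LocFree.basis'_of_affine hW.affine_preimage _ ?_
    rw [show (fun q : Fin rs.length → Γ(X, ι ⁻¹ᵁ U.1) => ∑ i, q i • b i) = b.equivFun.symm from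
      funext fun q => (b.equivFun_symm_apply q).symm]
    exact b.equivFun.symm.bijective
  exact (LocFree.finrank_stalk_of_basis hb hz).symm.trans (LocFree.finrank_stalk hrk z)

open Groth.LocFree (extPow)

omit [IsClosedImmersion ι] [Smooth g] [Smooth f] [QuasiSeparated g] [QuasiSeparated f] in
/-- Tensor products respect isomorphisms. -/
theorem nonempty_tensor_congr {L L' M M' : X.Modules} (e : L ≅ L') (e' : M ≅ M') :
    Nonempty (CohB1.tensorMod L M ≅ CohB1.tensorMod L' M') := by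
  let a : ((DCoh.tensorBi (X := X)).obj L).obj M ≅ ((DCoh.tensorBi (X := X)).obj L').obj M :=
    ((DCoh.tensorBi (X := X)).mapIso e).app M
  let b := ((DCoh.tensorBi (X := X)).obj L').mapIso e'
  exact ⟨a ≪≫ b⟩

include g f in
/-- `ι^*Ω^n_P ≅ Ω^r_X ⊗ ∧^{n-r} C`. -/
theorem nonempty_topForms_iso (hrn : r ≤ n) (hg : FlatMod.IsFinLocFreeOfRank n (Omega.sheaf g))
    (hf : FlatMod.IsFinLocFreeOfRank r (Omega.sheaf f)) (hι : ι ≫ g = f)
    (ΩP : P.Modules) (hΩP : ExtPow.IsExtPow n (Omega.sheaf g) ΩP)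
    (ΩX : X.Modules) (hΩX : ExtPow.IsExtPow r (Omega.sheaf f) ΩX)
    (L : X.Modules) (hL : ExtPow.IsExtPow (n - r) (Omega.conormal ι) L) :
    Nonempty ((Scheme.Modules.pullback ι).obj ΩP ≅ CohB1.tensorMod ΩX L) := by
  obtain ⟨hrk, -⟩ := isFinLocFreeOfRank_conormal g f ι n r hg hf hι
  have hrn' : n - r + r = n := Nat.sub_add_cancel hrn
  obtain ⟨φ, c, w, hS⟩ := Groth.Duality.FundLocal.exists_conormal_ses g f ι hι
  have h2 : FlatMod.IsFinLocFreeOfRank n ((Scheme.Modules.pullback ι).obj (Omega.sheaf g)) :=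
    LocFree.isFinLocFreeOfRank_pullback ι hg
  obtain ⟨θ, hθ⟩ := VBCurves.DetExact.nonempty_det_iso hS (a := n - r) (b := r) hrk
    (LocFree.isFinLocFree_of_rank h2) hf
  have hC : FlatMod.IsFinLocFreeOfRank 1 (extPow (n - r) (Omega.conormal ι)) := by
    simpa using LocFree.isFinLocFreeOfRank_extPow hrk (n - r)
  have hM : FlatMod.IsFinLocFreeOfRank 1 (extPow r (Omega.sheaf f)) := by
    simpa using LocFree.isFinLocFreeOfRank_extPow hf r
  have hT : FlatMod.IsFinLocFreeOfRank 1 (extPow (n - r + r) ((Scheme.Modules.pullback ι).obj (Omega.sheaf g))) := by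
    rw [hrn']
    simpa using LocFree.isFinLocFreeOfRank_extPow h2 n
  haveI : IsIso θ := Groth.Duality.FundLocal.isIso_of_epi_rank_one (LocFree.isFinLocFreeOfRank_tensorMod hC hM) hT θ
  haveI : (Omega.sheaf g).IsQuasicoherent := inferInstance
  obtain ⟨e1⟩ := LocFree.nonempty_iso_extPow (LocFree.isExtPow_pullback ι hΩP)
  obtain ⟨e2⟩ := LocFree.nonempty_iso_extPow hΩX
  obtain ⟨e3⟩ := LocFree.nonempty_iso_extPow hL
  have eT : CohB1.tensorMod (extPow (n - r) (Omega.conormal ι)) (extPow r (Omega.sheaf f)) ≅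
      (Scheme.Modules.pullback ι).obj ΩP :=
    asIso θ ≪≫ eqToIso (by rw [hrn']) ≪≫ e1
  obtain ⟨br, -⟩ := PicAux.exists_braiding (extPow (n - r) (Omega.conormal ι)) (extPow r (Omega.sheaf f))
  obtain ⟨a⟩ := nonempty_tensor_congr e2 e3
  exact ⟨eT.symm ≪≫ br ≪≫ a⟩

end Groth.RegImmSmooth
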